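import Cfsg.Agent.Lib.KGV.CharTools
import Cfsg.Agent.Lib.Blk4.SectionContrib
import Cfsg.Agent.Lib.BPStar.MIndep

/-!
# Averages over embeddings, and divisibility of contributions by the height
-/

set_option autoImplicit false
set_option linter.unusedSectionVars false
set_option linter.style.haveILetI false

noncomputable section

namespace CfsgLib.CentreHeight

open Cfsg CfsgLib.Blocks CfsgLib.Contribution
open scoped ComplexConjugate Classical

/-- An embedding of the field of roots of unity, extended by zero. -/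
def tau {N : ℕ} (σ : KGV.rootField N →ₐ[ℚ] ℂ) (x : ℂ) : ℂ :=
  if h : x ∈ KGV.rootField N then σ ⟨x, h⟩ else 0

variable {N : ℕ} (σ : KGV.rootField N →ₐ[ℚ] ℂ)

theorem tau_eq {x : ℂ} (hx : x ∈ KGV.rootField N) : tau σ x = σ ⟨x, hx⟩ := dif_pos hx

theorem tau_natCast (n : ℕ) : tau σ (n : ℂ) = (n : ℂ) := by
  rw [tau_eq σ (natCast_mem _ n),
    show (⟨(n : ℂ), natCast_mem _ n⟩ : KGV.rootField N) = (n : KGV.rootField N) from
      Subtype.ext (by simp), map_natCast]

theorem tau_mul {x y : ℂ} (hx : x ∈ KGV.rootField N) (hy : y ∈ KGV.rootField N) :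
    tau σ (x * y) = tau σ x * tau σ y := by
  rw [tau_eq σ hx, tau_eq σ hy, tau_eq σ (mul_mem hx hy), ← map_mul]
  rfl

theorem tau_sum {ι : Type*} (s : Finset ι) {x : ι → ℂ} (hx : ∀ i ∈ s, x i ∈ KGV.rootField N) :
    tau σ (∑ i ∈ s, x i) = ∑ i ∈ s, tau σ (x i) := by
  induction s using Finset.induction with
  | empty => simpa using tau_natCast σ 0
  | insert a t hat ih =>
    have h1 := hx a (Finset.mem_insert_self a t)
    have h2 : ∀ i ∈ t, x i ∈ KGV.rootField N := fun i hi => hx i (Finset.mem_insert_of_mem hi)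
    rw [Finset.sum_insert hat, Finset.sum_insert hat, ← ih h2, tau_eq σ h1,
      tau_eq σ (sum_mem h2), tau_eq σ (add_mem h1 (sum_mem h2)), ← map_add]
    rfl

theorem tau_mul_conj (hN : 0 < N) {x : ℂ} (hx : x ∈ KGV.rootField N) :
    tau σ (x * conj x) = (Complex.normSq (tau σ x) : ℂ) := by
  rw [tau_mul σ hx (KGV.conj_mem_rootField hx), tau_eq σ hx,
    tau_eq σ (KGV.conj_mem_rootField hx), KGV.map_conj_rootField hN σ hx, Complex.mul_conj]

theorem tau_sum_mul_conj (hN : 0 < N) {ι : Type*} (s : Finset ι) {x : ι → ℂ}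
    (hx : ∀ i ∈ s, x i ∈ KGV.rootField N) :
    tau σ (∑ i ∈ s, x i * conj (x i)) = ((∑ i ∈ s, Complex.normSq (tau σ (x i)) : ℝ) : ℂ) := by
  rw [tau_sum σ s fun i hi => mul_mem (hx i hi) (KGV.conj_mem_rootField (hx i hi)),
    Complex.ofReal_sum]
  exact Finset.sum_congr rfl fun i hi => tau_mul_conj σ hN (hx i hi)

/-- The conjugates of a totally positive algebraic integer average at least one. -/
theorem one_le_average (hN : 0 < N) {x : ℂ} (hx : x ∈ KGV.rootField N) (hint : IsIntegral ℤ x)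
    (hne : x ≠ 0) [Fintype (KGV.rootField N →ₐ[ℚ] ℂ)] (r : (KGV.rootField N →ₐ[ℚ] ℂ) → ℝ)
    (hr0 : ∀ σ, 0 ≤ r σ) (hr : ∀ σ, tau σ x = (r σ : ℂ)) :
    (Fintype.card (KGV.rootField N →ₐ[ℚ] ℂ) : ℝ) ≤ ∑ σ, r σ := by
  haveI := KGV.finiteDimensional_rootField hN
  set b : KGV.rootField N := ⟨x, hx⟩ with hb
  have hr' : ∀ σ : KGV.rootField N →ₐ[ℚ] ℂ, σ b = (r σ : ℂ) := fun σ => by rw [← hr, tau_eq σ hx]
  haveI : Nonempty (KGV.rootField N →ₐ[ℚ] ℂ) := ⟨(KGV.rootField N).val⟩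
  have hnorm := Algebra.norm_eq_prod_embeddings ℚ ℂ b
  have hi' : IsIntegral ℤ b :=
    (isIntegral_algebraMap_iff (algebraMap (KGV.rootField N) ℂ).injective).1 hint
  obtain ⟨m, hm⟩ := IsIntegrallyClosed.isIntegral_iff.1 (Algebra.isIntegral_norm ℚ hi')
  have hm' : ((m : ℤ) : ℂ) = ((∏ σ : KGV.rootField N →ₐ[ℚ] ℂ, r σ : ℝ) : ℂ) := by
    rw [Complex.ofReal_prod]
    simp only [← hr']
    convert hnorm using 1
    · rw [← hm]
      simp
    · exact Finset.prod_congr (by ext; simp) fun _ _ => rfl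
  have hm'' : ((m : ℤ) : ℝ) = ∏ σ : KGV.rootField N →ₐ[ℚ] ℂ, r σ := by exact_mod_cast hm'
  have hpne : ∀ σ, 0 < r σ := fun σ => lt_of_le_of_ne (hr0 σ) fun h0 => hne (by
    have h := hr' σ
    rw [← h0, Complex.ofReal_zero, map_eq_zero_iff σ σ.toRingHom.injective] at h
    exact congrArg Subtype.val h)
  have h0 : (0 : ℝ) < ∏ σ : KGV.rootField N →ₐ[ℚ] ℂ, r σ := Finset.prod_pos fun σ _ => hpne σ
  have hp1 : (1 : ℝ) ≤ ∏ σ : KGV.rootField N →ₐ[ℚ] ℂ, r σ := by
    rw [← hm''] at h0 ⊢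
    have h1 : 0 < m := by exact_mod_cast h0
    exact_mod_cast h1
  have hc : (0 : ℝ) < Fintype.card (KGV.rootField N →ₐ[ℚ] ℂ) := Nat.cast_pos.2 Fintype.card_pos
  have hgm := Real.geom_mean_le_arith_mean
    (Finset.univ : Finset (KGV.rootField N →ₐ[ℚ] ℂ)) (fun _ => (1 : ℝ))
    r (fun _ _ => zero_le_one) (by simpa using hc) fun σ _ => hr0 σ
  simp only [Real.rpow_one, one_mul, Finset.sum_const, Finset.card_univ, nsmul_eq_mul,
    mul_one] at hgm
  have h2 : (1 : ℝ) ≤ (∏ σ, r σ) ^ ((Fintype.card (KGV.rootField N →ₐ[ℚ] ℂ) : ℝ)⁻¹) :=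
    Real.one_le_rpow hp1 (inv_nonneg.2 hc.le)
  have h3 := h2.trans hgm
  rwa [le_div_iff₀ hc, one_mul] at h3

universe u

variable {G : Type u} [Group G] [Fintype G] {p : ℕ} {M : Ideal AlgInt}

/-- The contribution of a subsection of a character of height at least `h` is `p ^ h` times an
algebraic integer. -/
theorem exists_integral_section (hM : IsPModular p M) {B : Set (IrrCharacter G)}
    (hB : IsPBlock M B) {χ : IrrCharacter G} (hχ : χ ∈ B) {h : ℕ} (hh : p ^ h ∣ red p B χ)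
    {z : G} {n : ℕ} (hz : orderOf z = p ^ n) (C : Subgroup G) [Fintype C]
    (hC : Subgroup.centralizer ({z} : Set G) = C) (b : Set (IrrCharacter C)) (hb : IsPBlock M b) :
    IsIntegral ℤ (((p : ℂ) ^ h)⁻¹ * ((p : ℂ) ^ blockDefect p B * (Nat.card C : ℂ)⁻¹ *
      ∑ s ∈ Finset.univ.filter (fun s : C => ¬ p ∣ orderOf s),
        blockPart b (fun x : C => (χ : G → ℂ) (z * (x : G))) s *
          conj (blockPart b (fun x : C => (χ : G → ℂ) (z * (x : G))) s))) := by
  subst hC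
  haveI := Fintype.ofFinite (ConjClasses (Subgroup.centralizer ({z} : Set G)))
  haveI := Fintype.ofFinite (ConjClasses G)
  obtain ⟨w, hw⟩ := hh
  have hp0 : (p : ℂ) ≠ 0 := Nat.cast_ne_zero.2 hM.1.ne_zero
  set Z := ((p : ℂ) ^ h)⁻¹ * Blk4.Major.cz z b p (blockDefect p B) χ χ with hZdef
  have key : ((p : ℂ) ^ h)⁻¹ * ((p : ℂ) ^ blockDefect p B *
      (Nat.card (Subgroup.centralizer ({z} : Set G)) : ℂ)⁻¹ *
      ∑ s ∈ Finset.univ.filter (fun s : Subgroup.centralizer ({z} : Set G) => ¬ p ∣ orderOf s),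
        blockPart b (fun x : Subgroup.centralizer ({z} : Set G) => (χ : G → ℂ) (z * (x : G))) s *
          conj (blockPart b
            (fun x : Subgroup.centralizer ({z} : Set G) => (χ : G → ℂ) (z * (x : G))) s)) = Z := by
    rw [hZdef, Blk4.Major.cz]
    congr 2
    exact Finset.sum_congr rfl fun s _ => by
      rw [← Blk4.Major.blockPart_sectionFun z b χ s]; rfl
  rw [key]
  refine BPStar.isIntegral_of_local hM.1 (N := h + blockDefect p b) ?_ fun M' hM' => ?_
  · have e1 : (p : ℂ) ^ (h + blockDefect p b) * Z =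
        (p : ℂ) ^ blockDefect p B * Blk4.Major.cz z b p (blockDefect p b) χ χ := by
      rw [hZdef, Blk4.Major.cz, Blk4.Major.cz, pow_add]
      field_simp
    have hnat : ∀ m : ℕ, IsIntegral ℤ (m : ℂ) := fun m => by
      simpa using isIntegral_algebraMap (R := ℤ) (A := ℂ) (x := (m : ℤ))
    rw [e1]
    refine ((hnat p).pow _).mul ?_
    rw [Blk4.Major.cz_expand]
    refine IsIntegral.sum _ fun ξ _ => IsIntegral.sum _ fun η hη => ?_
    have hwint : ∀ ξ, IsIntegral ℤ (Blk4.Major.w z χ ξ) := fun ξ =>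
      (hnat _).mul (IsIntegral.of_pow (n := p ^ n) (pow_pos hM.1.pos n)
        (by rw [Blk4.Major.lam_pow z (hz ▸ pow_orderOf_eq_one z) ξ]; exact isIntegral_one))
    refine ((hwint ξ).mul ((hwint η).map ((starRingEnd ℂ).toIntAlgHom))).mul ?_
    obtain ⟨m, hm⟩ := exists_contrib_int hM hb ξ (Finset.mem_filter.1 hη).2
    rw [hm]
    exact isIntegral_algebraMap (R := ℤ) (x := m)
  · rw [hZdef, Blk4.Major.cz_eq z b hM' hz (BPStar.isPBlock_transfer hM hM' hb)
      (BPStar.isPBlock_transfer hM hM' hB) χ hχ, hw, Nat.cast_mul, Nat.cast_pow, ← mul_assoc,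
      ← mul_assoc, inv_mul_cancel₀ (pow_ne_zero _ hp0), one_mul]
    exact (lRing hM').mul_mem (natCast_mem (lRing hM') w) (Blk4.Major.tz_mem z b hM' hz χ χ)

end CfsgLib.CentreHeight
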