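import Cfsg.Agent.Lib.CentreHeight.Pair
import Cfsg.Agent.Lib.CentreHeight.Field
import Cfsg.Agent.Lib.BlockCover.DefectGroup

/-!
# Heights are bounded by the inertial index and the centre of the defect group
-/

set_option autoImplicit false
set_option linter.unusedSectionVars false
set_option linter.style.haveILetI false

noncomputable section

namespace CfsgLib.CentreHeight

open Cfsg MonoidAlgebra CfsgLib.Blocks CfsgLib.BrauerPairs CfsgLib.BPStar CfsgLib.Contribution
  CfsgLib.Characters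
open scoped ComplexConjugate Classical

universe u

variable {p : ℕ} [Fact p.Prime] {M : Ideal AlgInt} [M.IsMaximal]
variable {G : Type u} [Group G] [Fintype G]

/-- The `p`-regular elements centralising `u`. -/
def sec (p : ℕ) (u : G) : Finset G :=
  Finset.univ.filter fun s => s ∈ cz (Subgroup.zpowers u) ∧ ¬ p ∣ orderOf s

/-- The `p`-elements. -/
def pEls (p : ℕ) (G : Type u) [Group G] [Fintype G] : Finset G :=
  Finset.univ.filter fun u => ∃ k : ℕ, orderOf u = p ^ k

theorem sum_sec {α : Type*} [AddCommMonoid α] (u : G) (F : G → α) :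
    ∑ s ∈ sec p u, F s =
      ∑ s ∈ Finset.univ.filter (fun s : cz (Subgroup.zpowers u) => ¬ p ∣ orderOf s), F (s : G) := by
  refine Finset.sum_bij (fun s hs => ⟨s, (Finset.mem_filter.1 hs).2.1⟩) (fun s hs => ?_)
    (fun a _ b _ hab => congrArg Subtype.val hab) (fun c hc => ⟨(c : G), ?_, rfl⟩) fun s _ => rfl
  · exact Finset.mem_filter.2 ⟨Finset.mem_univ _, by
      rw [← Subgroup.orderOf_coe]; exact (Finset.mem_filter.1 hs).2.2⟩
  · exact Finset.mem_filter.2 ⟨Finset.mem_univ _, c.2, by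
      rw [Subgroup.orderOf_coe]; exact (Finset.mem_filter.1 hc).2⟩

/-- Sums over the group computed section by section. -/
theorem sum_pEls {α : Type*} [AddCommMonoid α] (hp : p.Prime) (F : G → α) :
    ∑ u ∈ pEls p G, ∑ s ∈ sec p u, F (u * s) = ∑ g, F g := by
  rw [Finset.sum_sigma']
  refine Finset.sum_bij (fun x _ => x.1 * x.2) (fun x _ => Finset.mem_univ _) ?_ ?_ fun x _ => rfl
  · rintro ⟨u, s⟩ h1 ⟨v, t⟩ h2 heq
    simp only [Finset.mem_sigma, pEls, sec, Finset.mem_filter, Finset.mem_univ, true_and] at h1 h2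
    have h3 : IsPPart p (u * s) u := isPPart_mul (commute_of_mem_cz h1.2.1) h1.1 h1.2.2
    have h4 : IsPPart p (v * t) v := isPPart_mul (commute_of_mem_cz h2.2.1) h2.1 h2.2.2
    have heq' : u * s = v * t := heq
    rw [← heq'] at h4
    obtain rfl := IsPPart.unique hp h3 h4
    rw [mul_left_cancel heq']
  · intro g _
    obtain ⟨u, s, hu, hs, rfl⟩ := exists_sec_decomp hp g
    exact ⟨⟨u, (s : G)⟩, Finset.mem_sigma.2 ⟨Finset.mem_filter.2 ⟨Finset.mem_univ _, hu⟩,
      Finset.mem_filter.2 ⟨Finset.mem_univ _, s.2, by rwa [Subgroup.orderOf_coe]⟩⟩, rfl⟩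

variable (hM : IsPModular p M) (σ : KGV.rootField (Nat.card G) →ₐ[ℚ] ℂ) (χ : IrrCharacter G)

/-- The weight of the piece `f` of the section of `u`. -/
def secW (u : G) (f : MonoidAlgebra (ResK M) G) : ℝ :=
  ∑ s ∈ sec p u, Complex.normSq (tau σ (liftVal hM (χ : G → ℂ) (u * s) f))

theorem secW_nonneg (u : G) (f : MonoidAlgebra (ResK M) G) : 0 ≤ secW hM σ χ u f :=
  Finset.sum_nonneg fun _ _ => Complex.normSq_nonneg _

theorem blockPart_mem {u : G} (b : Set (IrrCharacter (cz (Subgroup.zpowers u))))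
    (s : cz (Subgroup.zpowers u)) :
    blockPart b (secFun u (χ : G → ℂ)) s ∈ KGV.rootField (Nat.card G) := by
  rw [blockPart_eq_sum]
  exact sum_mem fun ξ _ => mul_mem (secMult_spec u χ ξ).2
    (char_mem_rootField_sub (irr_isCharacter ξ) s)

theorem chi_mem (g : G) : (χ : G → ℂ) g ∈ KGV.rootField (Nat.card G) :=
  KGV.char_mem_rootField (irr_isCharacter χ) g

/-- One section, in all conjugates. -/
theorem sum_secW {u : G} (hu : ∃ k : ℕ, orderOf u = p ^ k) :
    ∑ s ∈ sec p u, Complex.normSq (tau σ ((χ : G → ℂ) (u * s))) =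
      ∑ f ∈ blocksAt hM u, secW hM σ χ u f := by
  set C := cz (Subgroup.zpowers u)
  set reg := Finset.univ.filter (fun s : C => ¬ p ∣ orderOf s)
  set bp : Set (IrrCharacter C) → C → ℂ := fun b => blockPart b (secFun u (χ : G → ℂ))
  have hN : 0 < Nat.card G := Nat.card_pos
  have hid : ∑ s ∈ reg, (χ : G → ℂ) (u * (s : G)) * conj ((χ : G → ℂ) (u * (s : G))) =
      ∑ b ∈ blockSets M C, ∑ s ∈ reg, bp b s * conj (bp b s) := by
    have e2 : ∑ s ∈ reg, (χ : G → ℂ) (u * (s : G)) * conj ((χ : G → ℂ) (u * (s : G))) =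
        ∑ b ∈ blockSets M C, ∑ b' ∈ blockSets M C, ∑ s ∈ reg, bp b s * conj (bp b' s) := by
      rw [Finset.sum_congr rfl fun b _ => Finset.sum_comm, Finset.sum_comm]
      refine Finset.sum_congr rfl fun s _ => ?_
      rw [← Finset.sum_mul_sum, ← map_sum]
      simp only [bp]
      rw [sum_blockPart hM (isClassFunction_secFun (irr_isClassFunction χ) u) s]
      rfl
    rw [e2]
    refine Finset.sum_congr rfl fun b hb => Finset.sum_eq_single b (fun b' hb' hne => ?_)
      fun h => absurd hb h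
    exact sum_regular_blockPart hM (mem_blockSets.1 hb) (mem_blockSets.1 hb') hne.symm _
  have h1 := congrArg (tau σ) hid
  rw [tau_sum_mul_conj σ hN reg fun s _ => chi_mem χ _, tau_sum σ _ fun b _ => sum_mem fun s _ =>
    mul_mem (blockPart_mem χ b s) (KGV.conj_mem_rootField (blockPart_mem χ b s)),
    Finset.sum_congr rfl fun b _ => tau_sum_mul_conj σ hN reg fun s _ => blockPart_mem χ b s,
    ← Complex.ofReal_sum, Complex.ofReal_inj] at h1
  rw [sum_sec u fun s => Complex.normSq (tau σ ((χ : G → ℂ) (u * s))), h1]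
  symm
  refine (Finset.sum_nbij (fun b => eA hM C b) ?_ ?_ ?_ ?_).symm
  · exact fun b hb => (mem_blocksAt_iff hM).2 (isBlockIdem_eA hM (mem_blockSets.1 hb))
  · exact fun b hb b' hb' h => eA_inj hM (mem_blockSets.1 (Finset.mem_coe.1 hb))
      (mem_blockSets.1 (Finset.mem_coe.1 hb')) h
  · intro f hf
    obtain ⟨b, hb, hbf⟩ := exists_eA_eq hM ((mem_blocksAt_iff hM).1 (Finset.mem_coe.1 hf))
    exact ⟨b, Finset.mem_coe.2 (mem_blockSets.2 hb), hbf⟩
  · intro b hb
    rw [secW, sum_sec u fun s => Complex.normSq (tau σ (liftVal hM (χ : G → ℂ) (u * s) _))]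
    refine Finset.sum_congr rfl fun s hs => ?_
    rw [liftVal_eA hM (irr_isCharacter χ) hu (Finset.mem_filter.1 hs).2 (mem_blockSets.1 hb)]

/-- All sections together. -/
theorem sum_secW_total :
    ∑ u ∈ pEls p G, ∑ f ∈ blocksAt hM u, secW hM σ χ u f = (Nat.card G : ℝ) := by
  have hN : 0 < Nat.card G := Nat.card_pos
  have e1 : ∑ u ∈ pEls p G, ∑ f ∈ blocksAt hM u, secW hM σ χ u f =
      ∑ u ∈ pEls p G, ∑ s ∈ sec p u, Complex.normSq (tau σ ((χ : G → ℂ) (u * s))) :=
    Finset.sum_congr rfl fun u hu => (sum_secW hM σ χ (Finset.mem_filter.1 hu).2).symm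
  rw [e1, sum_pEls hM.1 fun g => Complex.normSq (tau σ ((χ : G → ℂ) g))]
  have h := classInner_irr_self χ.2
  rw [classInner, inv_mul_eq_iff_eq_mul₀ (Nat.cast_ne_zero.2 hN.ne'), mul_one] at h
  have h1 := congrArg (tau σ) h
  rw [tau_sum_mul_conj σ hN _ fun g _ => chi_mem χ g, tau_natCast] at h1
  exact_mod_cast h1

/-- Conjugate pieces have equal weights. -/
theorem secW_conj {u : G} (hu : ∃ k : ℕ, orderOf u = p ^ k) {f : MonoidAlgebra (ResK M) G}
    (hf : IsBlockIdem (cz (Subgroup.zpowers u)) f) (t : G) :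
    secW hM σ χ (t * u * t⁻¹) (conjA t f) = secW hM σ χ u f := by
  have hmem : ∀ (a v s : G), s ∈ cz (Subgroup.zpowers v) →
      a * s * a⁻¹ ∈ cz (Subgroup.zpowers (a * v * a⁻¹)) := fun a v s hs => by
    rw [← map_conj_zpowers, cz_map_conj]
    exact ⟨s, hs, rfl⟩
  symm
  refine Finset.sum_nbij' (fun s => t * s * t⁻¹) (fun s => t⁻¹ * s * t) (fun s hs => ?_)
    (fun s hs => ?_) (fun s _ => by group) (fun s _ => by group) fun s hs => ?_
  · obtain ⟨-, h1, h2⟩ := Finset.mem_filter.1 hs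
    exact Finset.mem_filter.2 ⟨Finset.mem_univ _, hmem t u s h1, by rwa [orderOf_conj']⟩
  · obtain ⟨-, h1, h2⟩ := Finset.mem_filter.1 hs
    refine Finset.mem_filter.2 ⟨Finset.mem_univ _, ?_, ?_⟩
    · have := hmem t⁻¹ _ s h1
      rwa [inv_inv, show t⁻¹ * (t * u * t⁻¹) * t = u by group] at this
    · rwa [show t⁻¹ * s * t = t⁻¹ * s * t⁻¹⁻¹ by rw [inv_inv], orderOf_conj']
  · obtain ⟨-, h1, h2⟩ := Finset.mem_filter.1 hs
    have hh : IsPPart p (u * s) u := isPPart_mul (commute_of_mem_cz h1) hu h2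
    rw [show t * u * t⁻¹ * (t * s * t⁻¹) = t * (u * s) * t⁻¹ by group,
      liftVal_conj hM (irr_isCharacter χ) hh hf.idem
        (commute_single_of_conjA (hf.fixed _ (mul_mem (mem_cz_self u) h1))) t]

variable {B : Set (IrrCharacter G)} {D : Subgroup G}

/-- The bound, with the pairs chosen. -/
theorem height_bound {c : Set (IrrCharacter (cz D))} (hmax : IsMaximalBrauerPair p M B D c)
    {χ : IrrCharacter G} (hχ : χ ∈ B) {h : ℕ} (hh : p ^ h ∣ red p B χ) :
    p ^ h * Nat.card (Subgroup.center D) ≤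
      (D ⊔ cz D).relIndex (pairStab D (eA hM (cz D) c)) * p ^ blockDefect p B := by
  have := charP_res hM
  obtain ⟨hP, -⟩ := (isMaximalBrauerPair_iff hM B D c).1 hmax
  obtain ⟨hc, hB, hO⟩ := (isBrauerPairOf_iff hM B D c).1 hP
  set St := pairStab D (eA hM (cz D) c) with hSt
  set e := (D ⊔ cz D).relIndex St with he
  set K := D ⊔ cz D with hK
  set Zs : Finset G := Finset.univ.filter fun z => z ∈ D ∧ z ∈ cz D with hZs
  have hcard : Nat.card (Subgroup.center D) = Zs.card := by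
    rw [← Fintype.card_coe, ← Nat.card_eq_fintype_card]
    refine Nat.card_congr
      { toFun := fun z => ⟨((z : D) : G), Finset.mem_filter.2 ⟨Finset.mem_univ _, (z : D).2,
          mem_cz.2 fun v hv => congrArg Subtype.val (Subgroup.mem_center_iff.1 z.2 ⟨v, hv⟩)⟩⟩
        invFun := fun z => ⟨⟨(z : G), (Finset.mem_filter.1 z.2).2.1⟩,
          Subgroup.mem_center_iff.2 fun v => Subtype.ext
            (mem_cz.1 (Finset.mem_filter.1 z.2).2.2 v v.2)⟩
        left_inv := fun z => rfl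
        right_inv := fun z => rfl }
  -- the pairs
  have hex : ∀ z : G, ∃ f : MonoidAlgebra (ResK M) G, z ∈ Zs →
      IsBlockIdem (cz (Subgroup.zpowers z)) f ∧
        PairLE p (Subgroup.zpowers z, f) (D, eA hM (cz D) c) := by
    intro z
    by_cases hz : z ∈ Zs
    · obtain ⟨f, hf, hle⟩ := exists_pairLE (hasBlocks hM)
        (Subgroup.zpowers_le.2 (Finset.mem_filter.1 hz).2.1) hO.pgroup hO.block
      exact ⟨f, fun _ => ⟨hf, hle⟩⟩
    · exact ⟨0, fun h => absurd h hz⟩
  choose fz hfz using hex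
  have hzp : ∀ z ∈ Zs, ∃ k : ℕ, orderOf z = p ^ k := fun z hz => by
    rw [show z = ((⟨z, (Finset.mem_filter.1 hz).2.1⟩ : D) : G) from rfl, Subgroup.orderOf_coe]
    exact IsPGroup.iff_orderOf.1 hO.pgroup _
  haveI := KGV.finiteDimensional_rootField (N := Nat.card G) Nat.card_pos
  letI : Fintype (KGV.rootField (Nat.card G) →ₐ[ℚ] ℂ) := Fintype.ofFinite _
  set r : (KGV.rootField (Nat.card G) →ₐ[ℚ] ℂ) → G → ℝ := fun σ z =>
    secW hM σ χ z (fz z) / (Nat.card (cz (Subgroup.zpowers z)) : ℝ) with hr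
  -- each embedding
  have hupper : ∀ σ : KGV.rootField (Nat.card G) →ₐ[ℚ] ℂ, ∑ z ∈ Zs, r σ z ≤ (e : ℝ) := by
    intro σ
    set T : Finset ((_ : G) × MonoidAlgebra (ResK M) G) :=
      (pEls p G).sigma fun u => blocksAt hM u with hT
    set φ : G × G → (_ : G) × MonoidAlgebra (ResK M) G :=
      fun x => ⟨x.1⁻¹ * x.2 * x.1, conjA x.1⁻¹ (fz x.2)⟩ with hφ
    set val : (_ : G) × MonoidAlgebra (ResK M) G → ℝ :=
      fun y => secW hM σ χ y.1 y.2 / (Nat.card (cz (Subgroup.zpowers y.1)) : ℝ) with hval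
    have hmaps : ∀ x ∈ (Finset.univ : Finset G) ×ˢ Zs, φ x ∈ T := by
      rintro ⟨g, z⟩ hx
      have hz := (Finset.mem_product.1 hx).2
      refine Finset.mem_sigma.2 ⟨Finset.mem_filter.2 ⟨Finset.mem_univ _, ?_⟩,
        (mem_blocksAt_iff hM).2 ?_⟩
      · show ∃ k, orderOf (g⁻¹ * z * g) = p ^ k
        rw [show g⁻¹ * z * g = g⁻¹ * z * g⁻¹⁻¹ by rw [inv_inv], orderOf_conj']
        exact hzp z hz
      · have h1 := (hfz z hz).1.conjA g⁻¹
        rw [← cz_map_conj, map_conj_zpowers, inv_inv] at h1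
        exact h1
    have hcardC : ∀ g z : G, Nat.card (cz (Subgroup.zpowers (g⁻¹ * z * g))) =
        Nat.card (cz (Subgroup.zpowers z)) := fun g z => by
      rw [show g⁻¹ * z * g = g⁻¹ * z * g⁻¹⁻¹ by rw [inv_inv], ← map_conj_zpowers, cz_map_conj,
        Subgroup.card_map_of_injective (MulAut.conj g⁻¹).injective]
    have hsame : ∀ x ∈ (Finset.univ : Finset G) ×ˢ Zs, r σ x.2 = val (φ x) := by
      rintro ⟨g, z⟩ hx
      have hz := (Finset.mem_product.1 hx).2
      have h1 := secW_conj hM σ χ (hzp z hz) (hfz z hz).1 g⁻¹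
      rw [inv_inv] at h1
      simp only [hr, hval, hφ, h1, hcardC]
    have hfib : ∀ y ∈ T, ((((Finset.univ : Finset G) ×ˢ Zs).filter fun x => φ x = y).card : ℝ) *
        val y ≤ (e : ℝ) * secW hM σ χ y.1 y.2 := by
      intro y _
      set Fb := ((Finset.univ : Finset G) ×ˢ Zs).filter fun x => φ x = y
      rcases Fb.eq_empty_or_nonempty with h0 | ⟨⟨g₀, z₀⟩, hx₀⟩
      · rw [h0, Finset.card_empty, Nat.cast_zero, zero_mul]
        exact mul_nonneg (Nat.cast_nonneg _) (secW_nonneg hM σ χ _ _)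
      obtain ⟨hx₀', hy₀⟩ := Finset.mem_filter.1 hx₀
      have hz₀ := (Finset.mem_product.1 hx₀').2
      obtain ⟨hz₀D, hz₀C⟩ := (Finset.mem_filter.1 hz₀).2
      set C := cz (Subgroup.zpowers z₀) with hC
      have hKC : K ≤ C := by
        refine sup_le (fun v hv => ?_) (cz_anti (Subgroup.zpowers_le.2 hz₀D))
        refine mem_cz.2 fun w hw => ?_
        obtain ⟨i, rfl⟩ := Subgroup.mem_zpowers_iff.1 hw
        exact (Commute.zpow_left (show Commute z₀ v from (mem_cz.1 hz₀C v hv).symm) i).eq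
      have hinj : Set.InjOn Prod.fst (Fb : Set (G × G)) := by
        rintro ⟨g, z⟩ hx ⟨g', z'⟩ hx' (hgg : g = g')
        subst hgg
        have h1 := (Finset.mem_filter.1 (Finset.mem_coe.1 hx)).2
        have h2 := (Finset.mem_filter.1 (Finset.mem_coe.1 hx')).2
        have h3 : g⁻¹ * z * g = g⁻¹ * z' * g := congrArg Sigma.fst (h1.trans h2.symm)
        rw [mul_left_cancel (mul_right_cancel h3)]
      have hsub : Fb.image Prod.fst ⊆ (Finset.univ : Finset ((St ⧸ K.subgroupOf St) × C)).image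
          fun qw => ((qw.1.out : St) : G) * (qw.2 : G) * g₀ := by
        intro g hg
        obtain ⟨⟨g, z⟩, hx, rfl⟩ := Finset.mem_image.1 hg
        obtain ⟨hx', hy⟩ := Finset.mem_filter.1 hx
        have hz := (Finset.mem_product.1 hx').2
        obtain ⟨hzD, hzC⟩ := (Finset.mem_filter.1 hz).2
        have heq : φ (g, z) = φ (g₀, z₀) := hy.trans hy₀.symm
        have e1 : g⁻¹ * z * g = g₀⁻¹ * z₀ * g₀ := congrArg Sigma.fst heq
        have e2 : conjA g⁻¹ (fz z) = conjA g₀⁻¹ (fz z₀) := by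
          have h2 := (Sigma.ext_iff.1 heq).2
          exact eq_of_heq h2
        obtain ⟨a, ha, w, hw, haw⟩ := exists_stab_mul hM hmax hz₀D hz₀C hzD hzC
          (hfz z₀ hz₀).2 (hfz z hz).2 (h := g * g₀⁻¹)
          (by
            calc g * g₀⁻¹ * z₀ * (g * g₀⁻¹)⁻¹ = g * (g₀⁻¹ * z₀ * g₀) * g⁻¹ := by group
              _ = g * (g⁻¹ * z * g) * g⁻¹ := by rw [e1]
              _ = z := by group)
          (by rw [conjA_mul_left, ← e2, ← conjA_mul_left, mul_inv_cancel, conjA_one_left])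
        set q : St ⧸ K.subgroupOf St := QuotientGroup.mk (⟨a, ha⟩ : St)
        obtain ⟨k, hk⟩ := QuotientGroup.mk_out_eq_mul (K.subgroupOf St) (⟨a, ha⟩ : St)
        have hkC : ((k : St) : G) ∈ C := hKC (Subgroup.mem_subgroupOf.1 k.2)
        refine Finset.mem_image.2 ⟨(q, ⟨((k : St) : G)⁻¹ * w, C.mul_mem (C.inv_mem hkC) hw⟩),
          Finset.mem_univ _, ?_⟩
        show ((q.out : St) : G) * (((k : St) : G)⁻¹ * w) * g₀ = g
        rw [show ((q.out : St) : G) = a * ((k : St) : G) from congrArg Subtype.val hk, mul_assoc a,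
          mul_inv_cancel_left, ← haw, inv_mul_cancel_right]
      have hle : Fb.card ≤ e * Nat.card C := by
        rw [← Finset.card_image_of_injOn hinj]
        refine (Finset.card_le_card hsub).trans (Finset.card_image_le.trans ?_)
        rw [Finset.card_univ, Fintype.card_prod, ← Nat.card_eq_fintype_card,
          ← Nat.card_eq_fintype_card, ← Subgroup.index_eq_card]
        exact le_rfl
      have hCy : Nat.card (cz (Subgroup.zpowers y.1)) = Nat.card C := by
        rw [← hy₀]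
        exact hcardC g₀ z₀
      have hC0 : (0 : ℝ) < Nat.card C := Nat.cast_pos.2 Nat.card_pos
      simp only [hval]
      rw [hCy]
      calc (Fb.card : ℝ) * (secW hM σ χ y.1 y.2 / (Nat.card C : ℝ))
          ≤ ((e * Nat.card C : ℕ) : ℝ) * (secW hM σ χ y.1 y.2 / (Nat.card C : ℝ)) :=
            mul_le_mul_of_nonneg_right (by exact_mod_cast hle)
              (div_nonneg (secW_nonneg hM σ χ _ _) hC0.le)
        _ = (e : ℝ) * secW hM σ χ y.1 y.2 := by
            push_cast
            field_simp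
    have hsum : (Nat.card G : ℝ) * ∑ z ∈ Zs, r σ z ≤ (e : ℝ) * Nat.card G := by
      calc (Nat.card G : ℝ) * ∑ z ∈ Zs, r σ z
          = ∑ x ∈ (Finset.univ : Finset G) ×ˢ Zs, r σ x.2 := by
            rw [Finset.sum_product]
            simp [Nat.card_eq_fintype_card]
        _ = ∑ x ∈ (Finset.univ : Finset G) ×ˢ Zs, val (φ x) := Finset.sum_congr rfl hsame
        _ = ∑ y ∈ T, ((((Finset.univ : Finset G) ×ˢ Zs).filter fun x => φ x = y).card : ℝ) *
              val y := by
            rw [← Finset.sum_fiberwise_of_maps_to hmaps]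
            refine Finset.sum_congr rfl fun y _ => ?_
            rw [Finset.sum_congr rfl fun x hx => congrArg val (Finset.mem_filter.1 hx).2,
              Finset.sum_const, nsmul_eq_mul]
        _ ≤ ∑ y ∈ T, (e : ℝ) * secW hM σ χ y.1 y.2 := Finset.sum_le_sum hfib
        _ = (e : ℝ) * Nat.card G := by
            rw [← Finset.mul_sum, hT, Finset.sum_sigma, sum_secW_total hM σ χ]
    exact le_of_mul_le_mul_left (by linarith) (Nat.cast_pos.2 Nat.card_pos : (0 : ℝ) < Nat.card G)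
  -- each central element
  have hlower : ∀ z ∈ Zs,
      (Fintype.card (KGV.rootField (Nat.card G) →ₐ[ℚ] ℂ) : ℝ) ≤
        ∑ σ, ((p : ℝ) ^ blockDefect p B / (p : ℝ) ^ h) * r σ z := by
    intro z hz
    set C := cz (Subgroup.zpowers z) with hC
    obtain ⟨hf, hle⟩ := hfz z hz
    obtain ⟨b, hb, hbf⟩ := exists_eA_eq hM hf
    rw [← hbf] at hle
    obtain ⟨n, hn⟩ := hzp z hz
    have hint := exists_integral_section hM hB hχ hh hn C (cz_zpowers z).symm b hb
    set reg := Finset.univ.filter (fun s : C => ¬ p ∣ orderOf s) with hreg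
    set x : ℂ := ((p : ℂ) ^ h)⁻¹ * ((p : ℂ) ^ blockDefect p B * (Nat.card C : ℂ)⁻¹ *
      ∑ s ∈ reg, blockPart b (secFun z (χ : G → ℂ)) s *
        conj (blockPart b (secFun z (χ : G → ℂ)) s)) with hx
    have hxmem : x ∈ KGV.rootField (Nat.card G) :=
      mul_mem (inv_mem (pow_mem (natCast_mem _ p) h)) (mul_mem (mul_mem (pow_mem (natCast_mem _ p) _)
        (inv_mem (natCast_mem _ _))) (sum_mem fun s _ =>
          mul_mem (blockPart_mem χ b s) (KGV.conj_mem_rootField (blockPart_mem χ b s))))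
    have hxne : x ≠ 0 := by
      have hzD := (Finset.mem_filter.1 hz).2.1
      have hzC := (Finset.mem_filter.1 hz).2.2
      have h1 := BPStar.blockPart_central_ne_zero hM hmax hχ ⟨z, hzD⟩ hzC hb hle
      refine mul_ne_zero (inv_ne_zero (pow_ne_zero _ (Nat.cast_ne_zero.2 hM.1.ne_zero)))
        (mul_ne_zero (mul_ne_zero (pow_ne_zero _ (Nat.cast_ne_zero.2 hM.1.ne_zero))
          (inv_ne_zero (Nat.cast_ne_zero.2 Nat.card_pos.ne'))) fun h0 => h1 ?_)
      simp only [Complex.mul_conj, ← Complex.ofReal_sum, Complex.ofReal_eq_zero] at h0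
      exact Complex.normSq_eq_zero.1
        ((Finset.sum_eq_zero_iff_of_nonneg fun s _ => Complex.normSq_nonneg _).1 h0 1
          (Finset.mem_filter.2 ⟨Finset.mem_univ _, by rw [orderOf_one]; exact hM.1.not_dvd_one⟩))
    refine one_le_average Nat.card_pos hxmem hint hxne _ (fun σ => ?_) fun σ => ?_
    · exact mul_nonneg (div_nonneg (pow_nonneg (Nat.cast_nonneg _) _)
        (pow_nonneg (Nat.cast_nonneg _) _)) (div_nonneg (secW_nonneg hM σ χ _ _) (Nat.cast_nonneg _))
    · have hsw : secW hM σ χ z (fz z) =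
          ∑ s ∈ reg, Complex.normSq (tau σ (blockPart b (secFun z (χ : G → ℂ)) s)) := by
        rw [← hbf, secW,
          sum_sec z fun s => Complex.normSq (tau σ (liftVal hM (χ : G → ℂ) (z * s) _))]
        refine Finset.sum_congr rfl fun s hs => ?_
        rw [liftVal_eA hM (irr_isCharacter χ) ⟨n, hn⟩ (Finset.mem_filter.1 hs).2 hb]
      have hnat : ∀ m : ℕ, (m : ℂ) ∈ KGV.rootField (Nat.card G) := fun m => natCast_mem _ m
      have htinv : ∀ m : ℕ, tau σ ((m : ℂ)⁻¹) = ((m : ℂ))⁻¹ := fun m => by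
        rw [tau_eq σ (inv_mem (hnat m)), show (⟨(m : ℂ)⁻¹, inv_mem (hnat m)⟩ :
          KGV.rootField (Nat.card G)) = (m : KGV.rootField (Nat.card G))⁻¹ from
          Subtype.ext (by simp), map_inv₀, map_natCast]
      have hS : ∑ s ∈ reg, blockPart b (secFun z (χ : G → ℂ)) s *
          conj (blockPart b (secFun z (χ : G → ℂ)) s) ∈ KGV.rootField (Nat.card G) :=
        sum_mem fun s _ => mul_mem (blockPart_mem χ b s) (KGV.conj_mem_rootField (blockPart_mem χ b s))
      rw [hx, ← Nat.cast_pow, ← Nat.cast_pow, tau_mul σ (inv_mem (hnat _))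
          (mul_mem (mul_mem (hnat _) (inv_mem (hnat _))) hS),
        tau_mul σ (mul_mem (hnat _) (inv_mem (hnat _))) hS, tau_mul σ (hnat _) (inv_mem (hnat _)),
        htinv, htinv, tau_natCast, tau_sum_mul_conj σ Nat.card_pos reg fun s _ => blockPart_mem χ b s,
        hr]
      simp only [hsw]
      push_cast
      ring
  -- both together
  set E := Fintype.card (KGV.rootField (Nat.card G) →ₐ[ℚ] ℂ) with hE
  haveI : Nonempty (KGV.rootField (Nat.card G) →ₐ[ℚ] ℂ) := ⟨(KGV.rootField (Nat.card G)).val⟩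
  have hEpos : (0 : ℝ) < E := Nat.cast_pos.2 Fintype.card_pos
  have hq : (0 : ℝ) ≤ (p : ℝ) ^ blockDefect p B / (p : ℝ) ^ h :=
    div_nonneg (pow_nonneg (Nat.cast_nonneg _) _) (pow_nonneg (Nat.cast_nonneg _) _)
  have h1 : (Zs.card : ℝ) * E ≤ ((p : ℝ) ^ blockDefect p B / (p : ℝ) ^ h) * e * E := by
    calc (Zs.card : ℝ) * E = ∑ _z ∈ Zs, (E : ℝ) := by simp
      _ ≤ ∑ z ∈ Zs, ∑ σ, ((p : ℝ) ^ blockDefect p B / (p : ℝ) ^ h) * r σ z :=
        Finset.sum_le_sum hlower
      _ = ∑ σ, ((p : ℝ) ^ blockDefect p B / (p : ℝ) ^ h) * ∑ z ∈ Zs, r σ z := by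
        rw [Finset.sum_comm]
        exact Finset.sum_congr rfl fun σ _ => (Finset.mul_sum _ _ _).symm
      _ ≤ ∑ _σ : KGV.rootField (Nat.card G) →ₐ[ℚ] ℂ,
          ((p : ℝ) ^ blockDefect p B / (p : ℝ) ^ h) * e :=
        Finset.sum_le_sum fun σ _ => mul_le_mul_of_nonneg_left (hupper σ) hq
      _ = _ := by rw [Finset.sum_const, Finset.card_univ, nsmul_eq_mul, ← hE]; ring
  have h2 := le_of_mul_le_mul_right h1 hEpos
  rw [div_mul_eq_mul_div, le_div_iff₀ (pow_pos (Nat.cast_pos.2 hM.1.pos) h)] at h2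
  rw [hcard]
  have h3 : ((p ^ h * Zs.card : ℕ) : ℝ) ≤ ((e * p ^ blockDefect p B : ℕ) : ℝ) := by
    push_cast
    linarith [mul_comm (Zs.card : ℝ) ((p : ℝ) ^ h), mul_comm ((p : ℝ) ^ blockDefect p B) (e : ℝ)]
  exact_mod_cast h3

end CfsgLib.CentreHeight
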