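import Cfsg.Agent.Lib.BPStar.NonVanish
import Cfsg.Agent.Lib.BrauerPairs.CentricBlock
import Cfsg.Agent.Lib.BrauerPairs.Induced

/-!
# The maximal pair of a block of `D C(D)`, and pairs at central elements of the defect group
-/

set_option autoImplicit false
set_option linter.unusedSectionVars false
set_option linter.style.haveILetI false

namespace CfsgLib.CentreHeight

open Cfsg MonoidAlgebra CfsgLib.Blocks CfsgLib.BrauerPairs
open scoped Classical

universe u

variable {p : ℕ} [Fact p.Prime] {M : Ideal AlgInt} [M.IsMaximal]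
variable {G : Type u} [Group G] [Fintype G]
variable {B : Set (IrrCharacter G)} {D : Subgroup G}

/-- A block of `D C(D)` inducing `B` gives a maximal pair with the same stabiliser. -/
theorem exists_maxPair (hM : IsPModular p M) (hB : IsPBlock M B)
    (hBD : IsDefectGroup p M B D) (H : Subgroup G) [Fintype H] (hH : H = D ⊔ cz D)
    (b : Set (IrrCharacter H)) (hind : IsInducedBlock M H b B) :
    ∃ c : Set (IrrCharacter (cz D)), IsMaximalBrauerPair p M B D c ∧
      ∀ g : G, g ∈ pairStab D (eA hM (cz D) c) ↔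
        g ∈ Subgroup.normalizer (D : Set G) ∧ ∀ θ ∈ b, ∀ θ' : IrrCharacter H,
          (∀ h h' : H, (h' : G) = g * h * g⁻¹ → (θ' : H → ℂ) h' = (θ : H → ℂ) h) → θ' ∈ b := by
  subst hH
  have := charP_res hM
  have hD := (isDefectGroup_iff hM hB D).1 hBD
  have hb := hind.1
  set f := eA hM (D ⊔ cz D) b with hf
  have hfi : IsBlockIdem (D ⊔ cz D) f := isBlockIdem_eA hM hb
  -- `f` is a block idempotent of the centraliser
  obtain ⟨s, hs, hsum⟩ := hasBlocks (G := G) hM (cz D)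
  obtain ⟨a, has, hne⟩ : ∃ a ∈ s, f * a ≠ 0 := by
    by_contra hcon
    simp only [not_exists, not_and, not_not] at hcon
    exact hfi.ne_zero (by rw [← mul_one f, ← hsum, Finset.mul_sum]; exact Finset.sum_eq_zero hcon)
  have ha := hs a has
  obtain ⟨c, hc, rfl⟩ := exists_eA_eq hM ha
  have hK : D ⊔ cz D ≤ pairStab D (eA hM (cz D) c) := sup_le
    (fun q hq => ⟨Subgroup.le_normalizer hq, fixed_of_supp_cz ha.supp q hq⟩)
    (fun x hx => ⟨cz_le_normalizer D hx, ha.fixed x hx⟩)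
  have hS : BrSetup p D (eA hM (cz D) c) (D ⊔ cz D) :=
    ⟨hD.pgroup, ha, fun y hy => (hK hy).1, le_sup_right, le_sup_left, fun y hy => (hK hy).2⟩
  obtain ⟨F', hF', -, hFe⟩ := exists_stabilizer_block hM hc hS
  have hfa : f = eA hM (cz D) c := by
    rw [← hFe]
    refine IsBlockIdem.eq_of_mul_ne_zero hfi (isBlockIdem_eA hM hF') ?_
    rwa [hFe]
  -- the block `B` covers it
  obtain ⟨ξ, hξ⟩ := IsPBlock.nonempty hM hb
  obtain ⟨χ, hχ⟩ := IsPBlock.nonempty hM hB
  let β : ↥(D ⊔ cz D) → ℂ := fun x => blockCoeff B (x : G)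
  have hβ : ∀ x, β x ∈ lRing hM := fun x => blockCoeff_mem hM hB _
  have hβc : ∀ g x, β (g * x * g⁻¹) = β x := fun g x => by
    simp only [β, Subgroup.coe_mul, Subgroup.coe_inv, BrauerPairs.blockCoeff_conj]
  have hone : MemLocalIdeal M
      ((∑ᶠ x : ↥(D ⊔ cz D), β x * (ξ : ↥(D ⊔ cz D) → ℂ) x / (ξ : ↥(D ⊔ cz D) → ℂ) 1) - 1) := by
    rw [finsum_eq_sum_of_fintype, ← sum_blockCoeff_mul_centralChar (B := B) hχ,
      ← Finset.sum_fiberwise Finset.univ (fun x : ↥(D ⊔ cz D) => ConjClasses.mk (x : G)),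
      ← Finset.sum_sub_distrib]
    refine MemLocalIdeal.sum hM _ fun K _ => ?_
    have hK' : ∀ x : G, ConjClasses.mk x = K ↔ IsConj K.out x := by
      intro x
      rw [isConj_comm, ← ConjClasses.mk_eq_mk_iff_isConj,
        show ConjClasses.mk K.out = K from Quotient.out_eq K]
    have he : ∑ x ∈ Finset.univ.filter (fun x : ↥(D ⊔ cz D) => ConjClasses.mk (x : G) = K),
        β x * (ξ : ↥(D ⊔ cz D) → ℂ) x / (ξ : ↥(D ⊔ cz D) → ℂ) 1 =
        blockCoeff B K.out * inducedCentralChar (D ⊔ cz D) (ξ : ↥(D ⊔ cz D) → ℂ) K.out := by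
      rw [inducedCentralChar, finsum_mem_eq_sum_of_inter_support_eq (t := Finset.univ.filter
        (fun x : ↥(D ⊔ cz D) => ConjClasses.mk (x : G) = K)), Finset.mul_sum]
      · refine Finset.sum_congr rfl fun x hx => ?_
        show blockCoeff B (x : G) * _ / _ = _
        rw [blockCoeff_of_isConj B ((hK' _).1 (Finset.mem_filter.1 hx).2), mul_div_assoc]
      · ext x; simp [hK']
    rw [he, ← mul_sub]
    exact MemLocalIdeal.mul_left hM (memLocalRing_blockCoeff hM hB _) (hind.2.2 ξ hξ χ hχ _)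
  have hn := (nilpotent_sub hM hb hξ hβ hβc).map (inclA (ResK M) (D ⊔ cz D))
  have hl : resK hM ⟨_, omega_sum_mem hM ξ hβ hβc⟩ = 1 := by
    rw [← map_one (resK hM), resK_eq_iff]
    exact hone
  rw [hl, one_smul, map_sub, map_mul, inclA_eG, ← hf, hfa] at hn
  set Y := inclA (ResK M) (D ⊔ cz D) (redFun hM β) with hY
  set E := eG hM B with hEdef
  have hE := isBlockIdem_eG hM hB
  have hYfix : Y ∈ fixAlg (ResK M) D := by
    refine mem_fixAlg_iff_coeff.2 fun u hu x => ?_
    have hu' : u ∈ D ⊔ cz D := Subgroup.mem_sup_left hu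
    by_cases hx : x ∈ D ⊔ cz D
    · rw [show x = ((⟨x, hx⟩ : ↥(D ⊔ cz D)) : G) from rfl,
        show u * ((⟨x, hx⟩ : ↥(D ⊔ cz D)) : G) * u⁻¹ =
          (((⟨u, hu'⟩ * ⟨x, hx⟩ * (⟨u, hu'⟩ : ↥(D ⊔ cz D))⁻¹ : ↥(D ⊔ cz D))) : G) from rfl,
        hY, coeff_inclA, coeff_inclA, coeff_redFun hM (hβ _), coeff_redFun hM (hβ ⟨x, hx⟩)]
      exact congrArg _ (Subtype.ext (hβc _ _))
    · rw [hY, coeff_inclA_of_notMem _ hx, coeff_inclA_of_notMem]
      intro h
      refine hx ?_
      have := (D ⊔ cz D).mul_mem ((D ⊔ cz D).mul_mem ((D ⊔ cz D).inv_mem hu') h) hu'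
      simpa [mul_assoc] using this
  have hbrY : brMap (ResK M) D Y = brMap (ResK M) D E := by
    ext x
    by_cases hx : x ∈ cz D
    · rw [coeff_brMap_of_mem _ hx, coeff_brMap_of_mem _ hx,
        show x = ((⟨x, Subgroup.mem_sup_right hx⟩ : ↥(D ⊔ cz D)) : G) from rfl, hY, coeff_inclA,
        coeff_redFun hM (hβ _), hEdef, eG, coeff_redFun hM (blockCoeff_mem hM hB _)]
    · rw [coeff_brMap_of_notMem _ hx, coeff_brMap_of_notMem _ hx]
  have hafix : eA hM (cz D) c ∈ fixAlg (ResK M) D := fixed_of_supp_cz ha.supp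
  obtain ⟨m, hm⟩ := hn
  have hn' : IsNilpotent (brMap (ResK M) D E * eA hM (cz D) c - eA hM (cz D) c) := by
    refine ⟨m, ?_⟩
    have h1 := congrArg (brMap (ResK M) D) hm
    rw [brMap_pow hD.pgroup (sub_mem (mul_mem hYfix hafix) hafix), map_zero, map_sub,
      brMap_mul hD.pgroup hYfix hafix, hbrY, brMap_eq_self ha.supp] at h1
    exact h1
  have hEP : E ∈ fixAlg (ResK M) D := fixAlg_anti le_top hE.fixed
  have hidem : brMap (ResK M) D E * brMap (ResK M) D E = brMap (ResK M) D E := by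
    rw [← brMap_mul hD.pgroup hEP hEP, hE.idem]
  have hcov : brMap (ResK M) D E * eA hM (cz D) c = eA hM (cz D) c := by
    refine (ha.mul_idem (brMap_mem_suppAlg D E)
      (brMap_mem_fixAlg (cz_le_normalizer D) (fixAlg_anti le_top hE.fixed)) hidem).resolve_left
      fun h0 => ha.ne_zero ?_
    rw [h0, zero_sub, isNilpotent_neg_iff] at hn'
    exact eq_zero_of_nilpotent_idem hn' ha.idem
  refine ⟨c, (isMaximalBrauerPair_iff hM B D c).2
    ⟨(isBrauerPairOf_iff hM B D c).2 ⟨hc, hB, hD.pgroup, bot_le, le_top, ha, hcov⟩, hD⟩,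
    fun g => ?_⟩
  -- the stabiliser
  show g ∈ Subgroup.normalizer (D : Set G) ∧ conjA g (eA hM (cz D) c) = eA hM (cz D) c ↔ _
  refine and_congr_right fun hg => ?_
  have hgH : g ∈ Subgroup.normalizer ((D ⊔ cz D : Subgroup G) : Set G) := by
    refine Fusion.mem_normalizer_of_forall fun y hy => ?_
    have hmap : (D ⊔ cz D).map (MulAut.conj g).toMonoidHom = D ⊔ cz D := by
      rw [Subgroup.map_sup, map_conj_eq_self hg, map_conj_eq_self (normalizer_le_normalizer_cz D hg)]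
    exact hmap.le ⟨y, hy, rfl⟩
  rw [← hfa, hf, ← stabilizesBlock_iff_conjA hM hgH hb]
  constructor
  · rintro ⟨-, hst⟩ θ hθ θ' hθ'
    obtain ⟨θ'', hθ'', hrel⟩ := hst θ hθ
    have : θ' = θ'' := by
      refine Subtype.ext (funext fun h' => ?_)
      have hh : g⁻¹ * (h' : G) * g ∈ D ⊔ cz D := by
        simpa using (Subgroup.mem_normalizer_iff.1 (inv_mem hgH) (h' : G)).1 h'.2
      have he : (h' : G) = g * ((⟨_, hh⟩ : ↥(D ⊔ cz D)) : G) * g⁻¹ := by simp [mul_assoc]
      rw [hθ' ⟨_, hh⟩ h' he, hrel ⟨_, hh⟩ h' he]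
    exact this ▸ hθ''
  · intro hT
    refine ⟨hgH, fun θ hθ => ?_⟩
    let θ' : IrrCharacter ↥(D ⊔ cz D) :=
      CharCorr.twistIrr (conjEquiv g (mem_normalizer_conj_iff (K := D ⊔ cz D) hgH)) θ
    have hrel : IsConjCharOf (D ⊔ cz D) g (θ : ↥(D ⊔ cz D) → ℂ) (θ' : ↥(D ⊔ cz D) → ℂ) :=
      (isConjCharOf_iff hgH θ θ').2 rfl
    exact ⟨θ', hT θ hθ θ' hrel, hrel⟩

/-- Data at an element of the centre of the defect group. -/
theorem central_setup (hM : IsPModular p M) {c : Set (IrrCharacter (cz D))}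
    (hmax : IsMaximalBrauerPair p M B D c) {z : G} (hz : z ∈ D) (hzc : z ∈ cz D)
    {f : MonoidAlgebra (ResK M) G}
    (hle : PairLE p (Subgroup.zpowers z, f) (D, eA hM (cz D) c)) :
    BrSetup p (Subgroup.zpowers z) f (cz (Subgroup.zpowers z)) ∧
      IsDefect p (Subgroup.zpowers z) f (cz (Subgroup.zpowers z)) D ∧
      OverPair p (Subgroup.zpowers z) f (cz (Subgroup.zpowers z)) D (eA hM (cz D) c) := by
  have := charP_res hM
  obtain ⟨hP, hD⟩ := (isMaximalBrauerPair_iff hM B D c).1 hmax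
  obtain ⟨hc, hB, hO⟩ := (isBrauerPairOf_iff hM B D c).1 hP
  set Q := Subgroup.zpowers z with hQ
  set E := eG hM B with hEdef
  have hE := isBlockIdem_eG hM hB
  have hQD : Q ≤ D := Subgroup.zpowers_le.2 hz
  have hQp : IsPGroup p Q := hD.pgroup.to_le hQD
  have hDC : D ≤ cz Q := fun v hv => mem_cz.2 fun w hw => by
    obtain ⟨i, rfl⟩ := Subgroup.mem_zpowers_iff.1 hw
    exact (Commute.zpow_left (show Commute z v from (mem_cz.1 hzc v hv).symm) i).eq
  have hfi : IsBlockIdem (cz Q) f := BPStar.block_of_pairLE (a := (Q, f)) hle hO.block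
  have hS : BrSetup p Q f (cz Q) :=
    ⟨hQp, hfi, Subgroup.centralizer_le_normalizer _, le_rfl, hQD.trans hDC, hfi.fixed⟩
  obtain ⟨f', hf'⟩ := exists_normalSub (hasBlocks hM) hQD (hDC.trans (cz_le_normalizer Q))
    hD.pgroup hO.block
  have hff : f' = f := pairLE_unique (hasBlocks hM) (b := (D, eA hM (cz D) c)) hO.block hD.pgroup
    (Relation.ReflTransGen.single hf') hle
  subst hff
  have hcov : brMap (ResK M) Q E * f' = f' := (brMap_cover_iff hle hE.fixed hE.idem).2 hO.cover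
  have hbr : brMap (ResK M) D f' ≠ 0 := fun h0 => hO.block.ne_zero (by
    have h1 : brMap (ResK M) D f' * eA hM (cz D) c = eA hM (cz D) c := hf'.cover
    rw [← h1, h0, zero_mul])
  have hover : OverPair p Q f' (cz Q) D (eA hM (cz D) c) :=
    ⟨hD.pgroup, hQD, hDC, hO.block, hf'.cover⟩
  obtain ⟨D₁, hD₁, hDD⟩ := hS.exists_defect_ge hD.pgroup hDC hbr
  have hEQ : brMap (ResK M) Q E ∈ fixAlg (ResK M) D₁ :=
    brMap_mem_fixAlg (hD₁.le_T.trans hS.le_norm) (fixAlg_anti le_top hE.fixed)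
  have hDP : D₁ = D := by
    refine (Subgroup.eq_of_le_of_card_ge hDD ((brSetup_block hM hB).card_le_defect hD hD₁.pgroup
      le_top fun h0 => hD₁.br_ne ?_)).symm
    have h1 := congrArg (brMap (ResK M) D₁) hcov
    rw [brMap_mul hD₁.pgroup hEQ (fixAlg_anti hD₁.le_T hfi.fixed), brMap_brMap_of_le hD₁.le,
      h0, zero_mul] at h1
    exact h1.symm
  subst hDP
  exact ⟨hS, hD₁, hover⟩

/-- Two central pairs below a maximal pair that are conjugate are conjugate by its stabiliser. -/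
theorem exists_stab_mul (hM : IsPModular p M) {c : Set (IrrCharacter (cz D))}
    (hmax : IsMaximalBrauerPair p M B D c) {z z' h : G} (hz : z ∈ D) (hzc : z ∈ cz D)
    (hz' : z' ∈ D) (hzc' : z' ∈ cz D) {f f' : MonoidAlgebra (ResK M) G}
    (hle : PairLE p (Subgroup.zpowers z, f) (D, eA hM (cz D) c))
    (hle' : PairLE p (Subgroup.zpowers z', f') (D, eA hM (cz D) c))
    (hzz : h * z * h⁻¹ = z') (hff : conjA h f = f') :
    ∃ r ∈ pairStab D (eA hM (cz D) c), ∃ w ∈ cz (Subgroup.zpowers z), h = r * w := by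
  have := charP_res hM
  obtain ⟨-, -, hO⟩ := central_setup hM hmax hz hzc hle
  obtain ⟨hS', hD', hO'⟩ := central_setup hM hmax hz' hzc' hle'
  have hmap : (Subgroup.zpowers z).map (MulAut.conj h).toMonoidHom = Subgroup.zpowers z' := by
    rw [BPStar.map_conj_zpowers, hzz]
  have hczmap : (cz (Subgroup.zpowers z)).map (MulAut.conj h).toMonoidHom =
      cz (Subgroup.zpowers z') := by
    rw [← cz_map_conj, hmap]
  have hR : OverPair p (Subgroup.zpowers z') f' (cz (Subgroup.zpowers z'))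
      (D.map (MulAut.conj h).toMonoidHom) (conjA h (eA hM (cz D) c)) :=
    { pgroup := hO.pgroup.map _
      le := hmap ▸ Subgroup.map_mono hO.le
      le_T := hczmap ▸ Subgroup.map_mono hO.le_T
      block := by
        have h1 := hO.block.conjA h
        rwa [← cz_map_conj] at h1
      cover := by rw [← hff, ← conjA_brMap, ← conjA_mul, hO.cover] }
  obtain ⟨t, ht, htle⟩ := hS'.exists_conj_le (hasBlocks hM) hR hD' hO'
  have h3 : conjPair (t * h) (D, eA hM (cz D) c) = (D, eA hM (cz D) c) := by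
    have h1 : conjPair (t * h) (D, eA hM (cz D) c) =
        conjPair t (D.map (MulAut.conj h).toMonoidHom, conjA h (eA hM (cz D) c)) := by
      rw [conjPair_mul]; rfl
    rw [← h1] at htle
    refine htle.snd_eq (Subgroup.eq_of_le_of_card_ge htle.le ?_)
    exact (Subgroup.card_map_of_injective (MulAut.conj (t * h)).injective).ge
  have hr : t * h ∈ pairStab D (eA hM (cz D) c) := by
    refine ⟨Fusion.mem_normalizer_of_forall fun y hy => ?_, congrArg Prod.snd h3⟩
    have h4 := congrArg Prod.fst h3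
    exact h4.le ⟨y, hy, rfl⟩
  have hcomm : t⁻¹ * z' * t⁻¹⁻¹ = z' := by
    rw [inv_inv, mul_assoc, (BPStar.commute_of_mem_cz ht).eq, inv_mul_cancel_left]
  refine ⟨t * h, hr, (t * h)⁻¹ * h, ?_, by group⟩
  refine mem_cz.2 fun v hv => ?_
  obtain ⟨i, rfl⟩ := Subgroup.mem_zpowers_iff.1 hv
  have hc2 : Commute z ((t * h)⁻¹ * h) := by
    have h5 : (t * h)⁻¹ * h = h⁻¹ * t⁻¹ * h := by group
    have h6 : Commute z' t⁻¹ := (BPStar.commute_of_mem_cz ht).inv_right
    have h7 := h6.map (MulAut.conj h⁻¹).toMonoidHom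
    simp only [MulEquiv.coe_toMonoidHom, MulAut.conj_apply, inv_inv] at h7
    rw [← hzz] at h7
    rw [h5]
    simpa [mul_assoc] using h7
  exact (hc2.zpow_left i).eq

end CfsgLib.CentreHeight
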